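import Mathlib.Algebra.Homology.ShortComplex.Limits
import Mathlib.Algebra.Homology.ShortComplex.PreservesHomology
import Mathlib.Algebra.Homology.ShortComplex.ExactFunctor
import Mathlib.Algebra.Homology.HomologicalComplexLimits
import Mathlib.Algebra.Homology.HomologicalComplexAbelian
import Mathlib.Algebra.Homology.ShortComplex.HomologicalComplex
import Mathlib.CategoryTheory.Abelian.GrothendieckAxioms.Basic
import Mathlib.CategoryTheory.Abelian.FunctorCategory

/-! Homology commutes with exact limits. -/

universe t t' v u

open CategoryTheory Limits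

namespace Groth.Agent.HomLim

variable {C : Type u} [Category.{v} C] [Abelian C] {J : Type t} [Category.{t'} J]
  [HasLimitsOfShape J C] [HasExactLimitsOfShape J C]

/-- The short complex of functors of a diagram of short complexes. -/
noncomputable def diagSC (K : J ⥤ ShortComplex C) : ShortComplex (J ⥤ C) :=
  ShortComplex.mk (Functor.whiskerLeft K ShortComplex.π₁Toπ₂) (Functor.whiskerLeft K ShortComplex.π₂Toπ₃)
    (by ext j; exact (K.obj j).zero)

variable (K : J ⥤ ShortComplex C) {c : Cone K} (hc : IsLimit c)

/-- The limit, computed termwise. -/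
noncomputable def limDiagIso : (lim (J := J) (C := C)).mapShortComplex.obj (diagSC K) ≅ c.pt :=
  ShortComplex.isoMk
    ((limit.isLimit _).conePointUniqueUpToIso (isLimitOfPreserves ShortComplex.π₁ hc))
    ((limit.isLimit _).conePointUniqueUpToIso (isLimitOfPreserves ShortComplex.π₂ hc))
    ((limit.isLimit _).conePointUniqueUpToIso (isLimitOfPreserves ShortComplex.π₃ hc))
    ((isLimitOfPreserves ShortComplex.π₂ hc).hom_ext fun j => by
      dsimp [diagSC]
      erw [Category.assoc, Category.assoc, IsLimit.conePointUniqueUpToIso_hom_comp, limMap_π,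
        ← (c.π.app j).comm₁₂, IsLimit.conePointUniqueUpToIso_hom_comp_assoc]
      rfl)
    ((isLimitOfPreserves ShortComplex.π₃ hc).hom_ext fun j => by
      dsimp [diagSC]
      erw [Category.assoc, Category.assoc, IsLimit.conePointUniqueUpToIso_hom_comp, limMap_π,
        ← (c.π.app j).comm₂₃, IsLimit.conePointUniqueUpToIso_hom_comp_assoc]
      rfl)

/-- `j ↦ H(K j)` as a natural isomorphism. -/
noncomputable def homologyDiagIso :
    K ⋙ ShortComplex.homologyFunctor C ≅ (diagSC K).homology :=
  NatIso.ofComponents (fun j => (diagSC K).mapHomologyIso ((evaluation J C).obj j))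
    (fun {j j'} a => by
      have e := NatTrans.app_homology ((evaluation J C).map a) (diagSC K)
      refine Eq.trans ?_ (congrArg (((diagSC K).mapHomologyIso _).hom ≫ ·) e.symm)
      erw [Iso.hom_inv_id_assoc]
      rfl)

lemma preservesLimit_homology : PreservesLimit K (ShortComplex.homologyFunctor C) := by
  haveI : PreservesFiniteLimits (lim (J := J) (C := C)) := inferInstance
  haveI : PreservesFiniteColimits (lim (J := J) (C := C)) := HasExactLimitsOfShape.preservesFiniteColimits
  obtain ⟨hc⟩ : Nonempty (IsLimit (limit.cone K)) := ⟨limit.isLimit K⟩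
  refine preservesLimit_of_preserves_limit_cone hc ?_
  let e : (limit K).homology ≅ limit (diagSC K).homology :=
    ((ShortComplex.homologyFunctor C).mapIso (limDiagIso K hc)).symm ≪≫
      (diagSC K).mapHomologyIso (lim (J := J) (C := C))
  refine (IsLimit.postcomposeHomEquiv (homologyDiagIso K) _).1
    (IsLimit.ofIsoLimit (limit.isLimit _) (Cone.ext e fun j => ?_).symm)
  let τ : lim ⟶ (evaluation J C).obj j :=
    { app := fun F => limit.π F j, naturality := fun F G f => (limMap_π f j) }
  have h := NatTrans.app_homology τ (diagSC K)
  show ShortComplex.homologyMap (limit.π K j) ≫ (homologyDiagIso K).hom.app j =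
    e.hom ≫ τ.app (diagSC K).homology
  rw [h]
  dsimp only [e, Iso.trans_hom, Iso.symm_hom, Functor.mapIso_inv]
  rw [Category.assoc]
  erw [Iso.hom_inv_id_assoc]
  refine Eq.trans ?_ (Category.assoc _ _ _)
  refine congrArg (· ≫ ((diagSC K).mapHomologyIso ((evaluation J C).obj j)).hom) ?_
  show _ = ShortComplex.homologyMap (limDiagIso K hc).inv ≫ ShortComplex.homologyMap _
  refine Eq.trans ?_ (ShortComplex.homologyMap_comp _ _)
  congr 1
  ext1
  · exact ((IsLimit.conePointUniqueUpToIso_inv_comp (limit.isLimit _)
      (isLimitOfPreserves ShortComplex.π₁ hc) j)).symm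
  · exact ((IsLimit.conePointUniqueUpToIso_inv_comp (limit.isLimit _)
      (isLimitOfPreserves ShortComplex.π₂ hc) j)).symm
  · exact ((IsLimit.conePointUniqueUpToIso_inv_comp (limit.isLimit _)
      (isLimitOfPreserves ShortComplex.π₃ hc) j)).symm

lemma preservesLimitsOfShape_homology :
    PreservesLimitsOfShape J (ShortComplex.homologyFunctor C) :=
  ⟨fun {K} => preservesLimit_homology K⟩

variable {ι : Type*} (c : ComplexShape ι)

lemma preservesLimitsOfShape_complexHomology (i : ι) :
    PreservesLimitsOfShape J (HomologicalComplex.homologyFunctor C c i) := by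
  have : PreservesLimitsOfShape J (HomologicalComplex.shortComplexFunctor C c i) :=
    ⟨fun {K} => preservesLimit_of_preserves_limit_cone (limit.isLimit K)
      (ShortComplex.isLimitOfIsLimitπ _
        (isLimitOfPreserves (HomologicalComplex.eval C c (c.prev i)) (limit.isLimit K))
        (isLimitOfPreserves (HomologicalComplex.eval C c i) (limit.isLimit K))
        (isLimitOfPreserves (HomologicalComplex.eval C c (c.next i)) (limit.isLimit K)))⟩
  have := preservesLimitsOfShape_homology (C := C) (J := J)
  exact preservesLimitsOfShape_of_natIso (HomologicalComplex.homologyFunctorIso C c i).symm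

end Groth.Agent.HomLim
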